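import Groth.Agent.Lib.ThickAff3.Gamma
import Mathlib.RingTheory.Filtration
import Mathlib.RingTheory.AdicCompletion.Basic
import Mathlib.AlgebraicGeometry.Morphisms.Proper
import Mathlib.AlgebraicGeometry.Noetherian

/-!
# Functions of a proper flat scheme over a complete Noetherian local ring
-/

set_option autoImplicit false
set_option linter.style.haveILetI false
set_option backward.isDefEq.respectTransparency.types false
universe u

open AlgebraicGeometry CategoryTheory Limits TopologicalSpace IsLocalRing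
open Groth.Agent.ThickAff3

namespace Groth.Agent.FormalGamma21

variable {R : Type u} [CommRing R] [IsLocalRing R] [IsNoetherianRing R] {X : Scheme.{u}}
  (g : X ⟶ Spec (CommRingCat.of R))

theorem isArtinianRing_quot (n : ℕ) : IsArtinianRing (R ⧸ maximalIdeal R ^ (n + 1)) := by
  rw [isArtinianRing_iff_isNoetherianRing_krullDimLE_zero]
  refine ⟨inferInstance, Ring.krullDimLE_zero_iff.2 fun p hp => ?_⟩
  haveI : (p.comap (Ideal.Quotient.mk _)).IsPrime := Ideal.IsPrime.comap _
  have h1 : maximalIdeal R ≤ p.comap (Ideal.Quotient.mk _) :=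
    Ideal.IsPrime.le_of_pow_le (n := n + 1) fun x hx => by
      rw [Ideal.mem_comap, Ideal.Quotient.eq_zero_iff_mem.2 hx]
      exact zero_mem _
  have h2 : p.comap (Ideal.Quotient.mk _) = maximalIdeal R :=
    le_antisymm (IsLocalRing.le_maximalIdeal (Ideal.IsPrime.ne_top ‹_›)) h1
  rw [← Ideal.map_comap_of_surjective _ Ideal.Quotient.mk_surjective p]
  have : (p.comap (Ideal.Quotient.mk (maximalIdeal R ^ (n + 1)))).IsMaximal := by
    rw [h2]; infer_instance
  exact (Ideal.map_eq_top_or_isMaximal_of_surjective _ Ideal.Quotient.mk_surjective this).resolve_left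
    (by rw [Ideal.map_comap_of_surjective _ Ideal.Quotient.mk_surjective p]; exact hp.ne_top)

/-- The quotient map of the base. -/
noncomputable abbrev base (n : ℕ) : Spec (CommRingCat.of (R ⧸ maximalIdeal R ^ (n + 1))) ⟶ Spec (CommRingCat.of R) :=
  Spec.map (CommRingCat.ofHom (Ideal.Quotient.mk (maximalIdeal R ^ (n + 1))))

/-- A function vanishing on every infinitesimal neighbourhood of the closed fibre vanishes. -/
theorem eq_zero_of_thickenings [IsProper g] (f : Γ(X, ⊤))
    (hf : ∀ n, (pullback.fst g (base n)).app ⊤ f = 0) : f = 0 := by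
  haveI : IsLocallyNoetherian X := LocallyOfFiniteType.isLocallyNoetherian g
  let W : Set X := {x | X.presheaf.germ ⊤ x trivial f = 0}
  have hW : IsOpen W := by
    refine isOpen_iff_forall_mem_open.2 fun x hx => ?_
    obtain ⟨V, hxV, i, j, e⟩ := X.presheaf.germ_eq x (Opens.mem_top x) (Opens.mem_top x) f 0 (hx.trans (map_zero _).symm)
    refine ⟨V, fun y hy => ?_, V.2, hxV⟩
    show X.presheaf.germ ⊤ y trivial f = 0
    rw [← X.presheaf.germ_res_apply i y hy f, e, map_zero, map_zero]
  have hfib : ∀ x : X, g x = closedPoint R → x ∈ W := by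
    intro x hx
    obtain ⟨U, hU, hxU, -⟩ := exists_isAffineOpen_mem_and_subset (Opens.mem_top x)
    haveI : IsNoetherianRing Γ(X, U) := IsLocallyNoetherian.component_noetherian ⟨U, hU⟩
    set I := (maximalIdeal R).map (str g U) with hI
    have hmem : res X le_top f ∈ (⨅ n : ℕ, I ^ n • ⊤ : Submodule Γ(X, U) Γ(X, U)) := by
      refine Submodule.mem_iInf _ |>.2 fun n => ?_
      rcases n with _ | n
      · simp
      rw [smul_eq_mul, Ideal.mul_top]
      have hk := (fibre_data g _ Ideal.Quotient.mk_surjective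
        (IsPullback.of_hasPullback g (base n))).2 ⟨U, hU⟩
      have h1 : res X (le_top (a := U)) f ∈ RingHom.ker ((pullback.fst g (base n)).app U).hom := by
        rw [RingHom.mem_ker]
        show (X.presheaf.map (homOfLE le_top).op ≫ (pullback.fst g (base n)).app U) f = 0
        rw [(pullback.fst g (base n)).naturality, CommRingCat.comp_apply, hf, map_zero]
      have := hk h1
      rwa [Ideal.mk_ker, Ideal.map_pow] at this
    obtain ⟨r, hr⟩ := (Ideal.mem_iInf_smul_pow_eq_bot_iff I _).1 hmem
    show X.presheaf.germ ⊤ x trivial f = 0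
    have hr' : (1 - (r : Γ(X, U))) * res X le_top f = 0 := by
      rw [sub_mul, one_mul, ← smul_eq_mul, hr, sub_self]
    have hle : I ≤ Ideal.comap (X.presheaf.germ U x hxU).hom (maximalIdeal (X.presheaf.stalk x)) := by
      rw [hI, Ideal.map_le_iff_le_comap]
      intro a ha
      rw [Ideal.mem_comap, Ideal.mem_comap, IsLocalRing.mem_maximalIdeal, mem_nonunits_iff]
      intro hu
      have hx' : x ∈ X.basicOpen (str g U a) := (X.mem_basicOpen _ x hxU).2 hu
      rw [show X.basicOpen (str g U a) =
        X.basicOpen (g.appLE ⊤ U le_top ((Scheme.ΓSpecIso (CommRingCat.of R)).inv a)) from rfl,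
        Scheme.basicOpen_appLE, basicOpen_eq_of_affine] at hx'
      have hx'' : g x ∈ PrimeSpectrum.basicOpen a := hx'.2
      rw [hx] at hx''
      exact hx'' ha
    have hu : IsUnit (X.presheaf.germ U x hxU (1 - (r : Γ(X, U)))) := by
      rw [map_sub, map_one]
      exact IsLocalRing.isUnit_one_sub_self_of_mem_nonunits _ (hle r.2)
    have := congrArg (X.presheaf.germ U x hxU) hr'
    rw [map_mul, map_zero, hu.mul_right_eq_zero] at this
    rw [← X.presheaf.germ_res_apply (homOfLE (le_top : U ≤ ⊤)) x hxU f]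
    exact this
  have hall : W = Set.univ := by
    by_contra hne
    obtain ⟨x, hx⟩ := (Set.ne_univ_iff_exists_notMem _).1 hne
    have hcl : IsClosed (g '' Wᶜ) := g.isClosedMap _ hW.isClosed_compl
    obtain ⟨y, hy, hy'⟩ := (IsLocalRing.specializes_closedPoint (g x)).mem_closed hcl ⟨x, hx, rfl⟩
    exact hy (hfib y hy')
  refine TopCat.Presheaf.section_ext X.sheaf ⊤ _ _ fun x _ => ?_
  refine ((Set.eq_univ_iff_forall.1 hall x : X.presheaf.germ ⊤ x trivial f = 0)).trans ?_
  exact (map_zero (X.presheaf.germ ⊤ x trivial).hom).symm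

theorem app_comp_apply {X Y Z : Scheme.{u}} (t : Z ⟶ Y) (p : Y ⟶ X) (q : Z ⟶ X) (h : t ≫ p = q) (a : Γ(X, ⊤)) :
    q.app ⊤ a = t.app ⊤ (p.app ⊤ a) := by
  subst h
  rfl

/-- The thickenings have constant functions. -/
theorem str_bijective_thick [Flat g] {X₀ : Scheme.{u}} {i : X₀ ⟶ X}
    {f₀ : X₀ ⟶ Spec (CommRingCat.of (R ⧸ maximalIdeal R))}
    (hsq : IsPullback i f₀ g (Spec.map (CommRingCat.ofHom (Ideal.Quotient.mk (maximalIdeal R)))))
    (h0 : Function.Bijective ((Scheme.ΓSpecIso (CommRingCat.of (R ⧸ maximalIdeal R))).inv ≫ f₀.appTop)) (n : ℕ) :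
    Function.Bijective (str (pullback.snd g (base n)) ⊤) := by
  have hle : maximalIdeal R ^ (n + 1) ≤ maximalIdeal R := Ideal.pow_le_self n.succ_ne_zero
  haveI : Nontrivial (R ⧸ maximalIdeal R ^ (n + 1)) :=
    Ideal.Quotient.nontrivial_iff.2 fun h => (maximalIdeal.isMaximal R).ne_top (top_le_iff.1 (h ▸ hle))
  haveI : IsLocalRing (R ⧸ maximalIdeal R ^ (n + 1)) :=
    IsLocalRing.of_surjective' (Ideal.Quotient.mk _) Ideal.Quotient.mk_surjective
  haveI := isArtinianRing_quot (R := R) n
  haveI : Flat (pullback.snd g (base n)) := inferInstance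
  let q := Ideal.Quotient.factor hle
  have hq : Function.Surjective q := Ideal.Quotient.factor_surjective hle
  have hkq : RingHom.ker q = maximalIdeal (R ⧸ maximalIdeal R ^ (n + 1)) := by
    letI : Field (R ⧸ maximalIdeal R) := Ideal.Quotient.field _
    exact IsLocalRing.eq_maximalIdeal (RingHom.ker_isMaximal_of_surjective q hq)
  have hcomp : Spec.map (CommRingCat.ofHom q) ≫ base n =
      Spec.map (CommRingCat.ofHom (Ideal.Quotient.mk (maximalIdeal R))) := by
    rw [← Spec.map_comp, ← CommRingCat.ofHom_comp, Ideal.Quotient.factor_comp_mk]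
  refine str_top_bijective _ q hq hkq (i := pullback.lift i (f₀ ≫ Spec.map (CommRingCat.ofHom q))
    (by rw [Category.assoc, hcomp, hsq.w])) (f₀ := f₀) ?_ h0
  refine IsPullback.of_right ?_ (pullback.lift_snd _ _ _) (IsPullback.of_hasPullback g (base n))
  rw [pullback.lift_fst, hcomp]
  exact hsq

omit [IsNoetherianRing R] in
/-- Constants restrict to constants. -/
theorem app_str (n : ℕ) (r : R) : (pullback.fst g (base n)).app ⊤ (str g ⊤ r) =
    str (pullback.snd g (base n)) ⊤ (Ideal.Quotient.mk _ r) := by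
  have h := (fibre_data g _ Ideal.Quotient.mk_surjective (IsPullback.of_hasPullback g (base n))).1 ⊤ r
  refine h.trans ?_
  show (((Scheme.ΓSpecIso (CommRingCat.of _)).inv ≫ (pullback.snd g (base n)).appTop) ≫
      (pullback g (base n)).presheaf.map (homOfLE le_top).op).hom _ = _
  rw [Category.assoc]
  rfl

/-- The structure map of global functions is bijective. -/
theorem str_bijective [IsAdicComplete (maximalIdeal R) R] [IsProper g] [Flat g] {X₀ : Scheme.{u}}
    {i : X₀ ⟶ X} {f₀ : X₀ ⟶ Spec (CommRingCat.of (R ⧸ maximalIdeal R))}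
    (hsq : IsPullback i f₀ g (Spec.map (CommRingCat.ofHom (Ideal.Quotient.mk (maximalIdeal R)))))
    (h0 : Function.Bijective ((Scheme.ΓSpecIso (CommRingCat.of (R ⧸ maximalIdeal R))).inv ≫ f₀.appTop)) :
    Function.Bijective (str g ⊤) := by
  have hbij := str_bijective_thick g hsq h0
  have hdata := app_str g
  constructor
  · rw [injective_iff_map_eq_zero]
    intro r hr
    refine IsHausdorff.haus (inferInstance : IsHausdorff (maximalIdeal R) R) r fun n => ?_
    rcases n with _ | n
    · simp
    rw [SModEq.zero, smul_eq_mul, Ideal.mul_top, ← Ideal.Quotient.eq_zero_iff_mem]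
    refine (hbij n).1 ((hdata n r).symm.trans ?_)
    rw [hr]
    exact (map_zero ((pullback.fst g (base n)).app ⊤).hom).trans (map_zero (str (pullback.snd g (base n)) ⊤)).symm
  · intro s
    have : ∀ n, ∃ r : R, str (pullback.snd g (base n)) ⊤ (Ideal.Quotient.mk _ r) =
        (pullback.fst g (base n)).app ⊤ s := fun n => by
      obtain ⟨c, hc⟩ := (hbij n).2 ((pullback.fst g (base n)).app ⊤ s)
      obtain ⟨r, rfl⟩ := Ideal.Quotient.mk_surjective c
      exact ⟨r, hc⟩
    choose r hr using this
    have hstep : ∀ {m n : ℕ}, m ≤ n → r n - r m ∈ maximalIdeal R ^ (m + 1) := by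
      intro m n hmn
      rw [← Ideal.Quotient.eq_zero_iff_mem, map_sub, sub_eq_zero]
      refine (hbij m).1 ?_
      have hle : maximalIdeal R ^ (n + 1) ≤ maximalIdeal R ^ (m + 1) := Ideal.pow_le_pow_right (by omega)
      let t : pullback g (base m) ⟶ pullback g (base n) := pullback.lift (pullback.fst g (base m))
        (pullback.snd g (base m) ≫ Spec.map (CommRingCat.ofHom (Ideal.Quotient.factor hle)))
        (by rw [pullback.condition, Category.assoc, ← Spec.map_comp, ← CommRingCat.ofHom_comp,
              Ideal.Quotient.factor_comp_mk])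
      have e : t ≫ pullback.fst g (base n) = pullback.fst g (base m) := pullback.lift_fst _ _ _
      refine (hdata m (r n)).symm.trans ((app_comp_apply _ _ _ e _).trans ?_)
      refine Eq.trans ?_ ((app_comp_apply _ _ _ e s).symm.trans (hr m).symm)
      exact congrArg (t.app ⊤) ((hdata n (r n)).trans (hr n))
    obtain ⟨L, hL⟩ := IsPrecomplete.prec (I := maximalIdeal R) (M := R) inferInstance (f := r) (fun {m n} hmn => by
      rw [SModEq.sub_mem, smul_eq_mul, Ideal.mul_top]
      refine Ideal.pow_le_pow_right (Nat.le_succ m) ?_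
      simpa using neg_mem (hstep hmn))
    refine ⟨L, sub_eq_zero.1 (eq_zero_of_thickenings g _ fun n => ?_)⟩
    have h1 : Ideal.Quotient.mk (maximalIdeal R ^ (n + 1)) L = Ideal.Quotient.mk _ (r n) := by
      have h2 := hL (n + 1)
      rw [SModEq.sub_mem, smul_eq_mul, Ideal.mul_top] at h2
      rw [Ideal.Quotient.eq]
      have := sub_mem (hstep (Nat.le_succ n)) h2
      simpa using this
    refine (map_sub ((pullback.fst g (base n)).app ⊤).hom _ _).trans (sub_eq_zero.2 ?_)
    exact (hdata n L).trans ((congrArg _ h1).trans (hr n))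

end Groth.Agent.FormalGamma21
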